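import Mathlib

/-! helper7: formal projectivity for the adic topology versus projectivity of the reductions
modulo powers of the ideal. -/

set_option linter.style.haveILetI false
set_option linter.unusedVariables false
set_option linter.unusedSectionVars false

universe u

namespace Groth.Agent.Helper7.FormProj

theorem forward {A : Type u} [CommRing A] (I : Ideal A) (M : Type u) [AddCommGroup M] [Module A M]
    (H : ∀ (P Q : Type u) [AddCommGroup P] [Module A P] [AddCommGroup Q] [Module A Q],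
      (∀ a ∈ I, ∀ y : P, a • y = 0) → (∀ a ∈ I, ∀ y : Q, a • y = 0) →
      ∀ f : P →ₗ[A] Q, Function.Surjective f → ∀ v : M →ₗ[A] Q, ∃ w : M →ₗ[A] P, f ∘ₗ w = v) :
    Module.Projective (A ⧸ I) (M ⧸ (I • ⊤ : Submodule A M)) := by
  have hsurj : Function.Surjective (algebraMap A (A ⧸ I)) := Ideal.Quotient.mk_surjective
  refine Module.Projective.of_lifting_property'' (fun f hf => ?_)
  let F := (M ⧸ (I • ⊤ : Submodule A M)) →₀ (A ⧸ I)
  have hF : ∀ a ∈ I, ∀ y : F, a • y = 0 := by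
    intro a ha y
    ext p
    show a • y p = 0
    rw [Algebra.smul_def, Ideal.Quotient.algebraMap_eq, Ideal.Quotient.eq_zero_iff_mem.mpr ha,
      zero_mul]
  have hP : ∀ a ∈ I, ∀ y : M ⧸ (I • ⊤ : Submodule A M), a • y = 0 := by
    intro a ha y
    obtain ⟨m, rfl⟩ := Submodule.Quotient.mk_surjective _ y
    rw [← Submodule.Quotient.mk_smul, Submodule.Quotient.mk_eq_zero]
    exact Submodule.smul_mem_smul ha trivial
  obtain ⟨w, hw⟩ := H F (M ⧸ (I • ⊤ : Submodule A M)) hF hP (f.restrictScalars A) hf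
    (Submodule.mkQ _)
  have hker : (I • ⊤ : Submodule A M) ≤ LinearMap.ker w := by
    rw [Submodule.smul_le]
    intro a ha m _
    rw [LinearMap.mem_ker, map_smul]
    exact hF a ha _
  let wbar : (M ⧸ (I • ⊤ : Submodule A M)) →ₗ[A] F := Submodule.liftQ _ w hker
  refine ⟨wbar.extendScalarsOfSurjective hsurj, ?_⟩
  ext y
  obtain ⟨m, rfl⟩ := Submodule.Quotient.mk_surjective _ y
  show f (wbar (Submodule.Quotient.mk m)) = _
  have h1 : wbar (Submodule.Quotient.mk m) = w m := rfl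
  rw [h1]
  exact congrArg (fun g => g m) hw

theorem backward {A : Type u} [CommRing A] (I : Ideal A) (M : Type u) [AddCommGroup M] [Module A M]
    [hproj : Module.Projective (A ⧸ I) (M ⧸ (I • ⊤ : Submodule A M))]
    (P Q : Type u) [AddCommGroup P] [Module A P] [AddCommGroup Q] [Module A Q]
    (hP : ∀ a ∈ I, ∀ y : P, a • y = 0) (hQ : ∀ a ∈ I, ∀ y : Q, a • y = 0)
    (f : P →ₗ[A] Q) (hf : Function.Surjective f) (v : M →ₗ[A] Q) :
    ∃ w : M →ₗ[A] P, f ∘ₗ w = v := by
  have hsurj : Function.Surjective (algebraMap A (A ⧸ I)) := Ideal.Quotient.mk_surjective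
  have tP : Module.IsTorsionBySet A P (I : Set A) := fun x a => hP a.1 a.2 x
  have tQ : Module.IsTorsionBySet A Q (I : Set A) := fun x a => hQ a.1 a.2 x
  letI : Module (A ⧸ I) P := tP.module
  letI : Module (A ⧸ I) Q := tQ.module
  haveI : IsScalarTower A (A ⧸ I) P := tP.isScalarTower
  haveI : IsScalarTower A (A ⧸ I) Q := tQ.isScalarTower
  let f' : P →ₗ[A ⧸ I] Q := f.extendScalarsOfSurjective hsurj
  have hker : (I • ⊤ : Submodule A M) ≤ LinearMap.ker v := by
    rw [Submodule.smul_le]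
    intro a ha m _
    rw [LinearMap.mem_ker, map_smul]
    exact hQ a ha _
  let vbar : (M ⧸ (I • ⊤ : Submodule A M)) →ₗ[A] Q := Submodule.liftQ _ v hker
  let vbar' : (M ⧸ (I • ⊤ : Submodule A M)) →ₗ[A ⧸ I] Q := vbar.extendScalarsOfSurjective hsurj
  obtain ⟨h, hh⟩ := Module.projective_lifting_property f' vbar' hf
  refine ⟨(h.restrictScalars A).comp (Submodule.mkQ _), ?_⟩
  ext m
  show f (h (Submodule.Quotient.mk m)) = v m
  have := congrArg (fun g => g (Submodule.Quotient.mk m)) hh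
  exact this

theorem main {A : Type u} [CommRing A] (𝔞 : Ideal A) (M : Type u)
    [AddCommGroup M] [Module A M] :
    (∀ (n : ℕ) (P Q : Type u) [AddCommGroup P] [Module A P] [AddCommGroup Q] [Module A Q],
      (∀ a ∈ 𝔞 ^ n, ∀ y : P, a • y = 0) → (∀ a ∈ 𝔞 ^ n, ∀ y : Q, a • y = 0) →
      ∀ f : P →ₗ[A] Q, Function.Surjective f → ∀ v : M →ₗ[A] Q, ∃ w : M →ₗ[A] P, f ∘ₗ w = v) ↔
    ∀ n : ℕ, Module.Projective (A ⧸ 𝔞 ^ n) (M ⧸ (𝔞 ^ n • ⊤ : Submodule A M)) := by
  constructor
  · intro H n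
    exact forward (𝔞 ^ n) M (fun P Q _ _ _ _ hP hQ f hf v => H n P Q hP hQ f hf v)
  · intro H n P Q _ _ _ _ hP hQ f hf v
    haveI := H n
    exact backward (𝔞 ^ n) M P Q hP hQ f hf v

end Groth.Agent.Helper7.FormProj
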